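import Cfsg.Agent.FGS.F2.Defs

/-! Basic lemmas on the minimal configuration, second half. -/

set_option autoImplicit false
set_option linter.unusedSectionVars false

namespace CL.F2.BasB
open Subgroup Cfsg CL.MSS CL.PComp CL.Comp
open scoped commutatorElement

variable {G : Type*} [Group G] [Finite G] {p : ℕ} [hp : Fact p.Prime] {x : G}

theorem le_sup_of {L A T : Subgroup G} (hT : SylIn p T L)
    (h : ∀ q : ℕ, q.Prime → q ≠ p → ∀ Q : Subgroup G, Q ≤ L → IsPGroup q Q → Q ≤ A) :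
    L ≤ A ⊔ T := by
  rw [← subgroupOf_eq_top]
  refine eq_top_of_forall_sylow_le fun q hq => ?_
  by_cases e : q = p
  · subst e
    exact ⟨hT.toSylow, fun y hy => mem_sup_right hy⟩
  · obtain ⟨Q⟩ : Nonempty (Sylow q L) := inferInstance
    exact ⟨Q, fun y hy => mem_sup_left
      (h q hq.out e _ (map_subtype_le _) (Q.isPGroup'.map _) ⟨y, hy, rfl⟩)⟩

theorem dec (h : Mn p x) {d : G} (hd : IsConj x d) :
    ∃ H : Subgroup G, H ≠ ⊤ ∧ x ∈ H ∧ d ∈ H ∧ ∃ T : Subgroup G, IsPGroup p T ∧ x ∈ T ∧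
      ∃ a ∈ opOf p (fittingOf H), a * d * a⁻¹ ∈ T := by
  have hH := h.two x d (IsConj.refl x)
  set H := closure ({x, d} : Set G) with eH
  have hx : x ∈ H := subset_closure (by simp)
  have hdH : d ∈ H := subset_closure (by simp)
  have hC : H ≤ Cl x H := (closure_le _).2 (by
    rintro y (rfl | rfl)
    exacts [self_mem_Cl hx, mem_Cl hd hdH])
  obtain ⟨T, hT, xT⟩ := exists_sylIn_ge h.pg (zpowers_le.2 hx)
  have key := le_sup_of (A := opOf p (fittingOf H)) hT fun q hq e Q hQ hq' =>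
    (h.good H hH q hq e Q (hQ.trans hC) hq').trans (core_le_opF hq e H)
  obtain ⟨g, hg, hle⟩ := hT.exists_le_conj (h.conj hd).pg (zpowers_le.2 hdH)
  obtain ⟨a, ha, t, ht, rfl⟩ := (mem_sup_of_normalizes_left (hT.le.trans (norm_opF H))).1 (key hg)
  rw [cj_mul, cj_eq_of_mem ht] at hle
  exact ⟨H, hH, hx, hdH, T, hT.pgroup, xT (mem_zpowers x), a⁻¹, inv_mem ha, by
    rw [inv_inv]; exact mem_cj.1 (hle (mem_zpowers d))⟩

theorem corefree (h : Mn p x) {H A : Subgroup G} (hH : H ≠ ⊤) (hx : x ∈ H) (hA : A ≠ ⊥)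
    (hle : A ≤ H) : normalizer (A : Set G) ≠ ⊤ := by
  intro hN
  have core : ∀ q : ℕ, q.Prime → pCoreOf q A = ⊥ := fun q hq => by_contra fun h0 =>
    h.loc q hq _ (pCoreOf_isPGroup q A) h0
      (eq_top_iff.2 (hN.ge.trans (normalizer_le_normalizer_pCoreOf q A)))
  have inf : ∀ B : Subgroup G, H ≤ normalizer (B : Set G) →
      A ≤ normalizer ((A ⊓ B : Subgroup G) : Set G) := fun B hB =>
    le_normalizer_of_cj_le fun g hg => by
      rw [cj_inf, cj_eq_of_mem hg, cj_eq_of_mem_normalizer (hB (hle hg))]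
  obtain ⟨T, hT⟩ := exists_sylIn p (A ⊓ Cl x H)
  have key := le_sup_of (A := ⊥) hT fun q hq e Q hQ hq' => by
    have := Fact.mk hq
    rw [← core q hq]
    exact (le_inf (hQ.trans inf_le_left) (h.good H hH q hq e Q (hQ.trans inf_le_right) hq')).trans
      (le_pCoreOf inf_le_left (inf _ (le_normalizer_pCoreOf q H))
        ((pCoreOf_isPGroup q H).to_le inf_le_right))
  rw [bot_sup_eq] at key
  have hB : A ⊓ Cl x H ≤ ⊥ := by
    rw [← core p hp.out]
    exact le_pCoreOf inf_le_left (inf _ (norm_Cl x H)) (hT.pgroup.to_le key)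
  have hc : ⁅A, zpowers x⁆ ≤ ⊥ :=
    (le_inf (commutator_le_left_of_normalizes (hN ▸ le_top)) (comm_le_Cl hx hle)).trans hB
  have : A.Normal := normalizer_eq_top_iff.1 hN
  have h1 : normalClosure ({x} : Set G) ≤ centralizer (A : Set G) :=
    normalClosure_le_normal (Set.singleton_subset_iff.2 fun a ha =>
      commutatorElement_eq_one_iff_mul_comm.1
        (mem_bot.1 (hc (commutator_mem_commutator ha (mem_zpowers x)))))
  obtain ⟨a, a1⟩ := ne_bot_iff_exists_ne_one.1 hA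
  refine h.cen_ne_top (e := a) (fun e => a1 (Subtype.ext e)) (eq_top_iff.2 fun g _ => ?_)
  exact mem_centralizer_singleton_iff.2 (h1 (h.gen ▸ mem_top g) a a.2).symm

theorem comm_of_norm (h : Mn p x) {d : G} (hd : IsPGroup p (zpowers d))
    (hn : d ∈ normalizer (zpowers x : Set G)) : Commute x d := by
  have h1 : zpowers x ⊓ centralizer (zpowers d : Set G) ≠ ⊥ :=
    inf_centralizer_ne_bot hd h.pg (zpowers_le.2 hn) fun e => h.ne_one (zpowers_eq_bot.1 e)
  have h2 : Nat.card (zpowers x ⊓ centralizer (zpowers d : Set G) : Subgroup G) ∣ p := by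
    rw [← h.ord, ← Nat.card_zpowers x]
    exact card_dvd_of_le inf_le_left
  rcases (Nat.dvd_prime hp.out).1 h2 with e | e
  · exact absurd (card_eq_one.1 e) h1
  · have := eq_of_le_of_card_ge (inf_le_left : zpowers x ⊓ centralizer (zpowers d : Set G) ≤ _)
      (by rw [e, Nat.card_zpowers, h.ord])
    exact ((this.ge (mem_zpowers x)).2 d (mem_zpowers d)).symm

theorem wc (h : Mn p x) (hw : ∀ d : G, IsConj x d → Commute x d → d ∈ zpowers x)
    {T : Subgroup G} (hT : IsPGroup p T) (hx : x ∈ T) {d : G} (hd : IsConj x d) (hdT : d ∈ T) :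
    d ∈ zpowers x := by
  have c1 : ∀ d : G, IsConj x d → d ∈ normalizer (zpowers x : Set G) → d ∈ zpowers x :=
    fun d hd hn => hw d hd (comm_of_norm h (h.conj hd).pg hn)
  refine c1 d hd (by_contra fun hn => ?_)
  have l : T ⊓ normalizer (zpowers x : Set G) < T :=
    lt_of_le_of_ne inf_le_left fun e => hn (e.ge hdT).2
  obtain ⟨t, ht, t1⟩ := SetLike.exists_of_lt (lt_inf_normalizer_of_lt hT l)
  have h1 : t * x * t⁻¹ ∈ T ⊓ normalizer (zpowers x : Set G) :=
    (mem_normalizer_iff.1 ht.2 x).1 ⟨hx, le_normalizer (mem_zpowers x)⟩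
  refine t1 ⟨ht.1, mem_normalizer_iff_cj.2 (cj_eq_of_le ?_)⟩
  rw [cj_zpowers]
  exact zpowers_le.2 (c1 _ (isConj_cj x t) h1.2)

end CL.F2.BasB
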